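import Cfsg.Agent.Solubilizer.ThreeInvol

/-!
Involutions of PSL(2,q): two of them are joined to a third by products of odd order.
-/

set_option autoImplicit false

namespace CfsgLib.OddProduct

open CfsgLib.SL2C Matrix

theorem diam_two {V : Type*} {G : SimpleGraph V} {a b : V} (hab : a ≠ b) (hnadj : ¬ G.Adj a b)
    (h : ∀ u v, u ≠ v → ¬ G.Adj u v → ∃ w, G.Adj u w ∧ G.Adj w v) : G.Connected ∧ G.diam = 2 := by
  haveI : Nontrivial V := ⟨⟨a, b, hab⟩⟩
  have hle : G.ediam ≤ 2 := by
    refine SimpleGraph.ediam_le_of_edist_le fun u v => ?_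
    by_cases huv : u = v
    · subst huv; simp
    by_cases hadj : G.Adj u v
    · exact (SimpleGraph.edist_le hadj.toWalk).trans (by simp)
    · obtain ⟨w, h1, h2⟩ := h u v huv hadj
      exact (SimpleGraph.edist_le (h1.toWalk.append h2.toWalk)).trans (by simp [SimpleGraph.Walk.length_append])
  have htop : G.ediam ≠ ⊤ := ne_top_of_le_ne_top (by simp) hle
  refine ⟨SimpleGraph.connected_of_ediam_ne_top htop, ?_⟩
  have h0 : G.ediam ≠ 0 := SimpleGraph.ediam_ne_zero
  have h1 : G.ediam ≠ 1 := fun e => hnadj (by rw [SimpleGraph.ediam_eq_one.1 e]; exact hab)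
  obtain ⟨n, hn⟩ := ENat.ne_top_iff_exists.1 htop
  rw [← hn] at hle h0 h1
  have h2 : n ≤ 2 := by exact_mod_cast hle
  have h3 : n ≠ 0 := fun e => h0 (by simp [e])
  have h4 : n ≠ 1 := fun e => h1 (by simp [e])
  rw [SimpleGraph.diam, ← hn]
  simp
  omega

variable {F : Type*} [Field F]

theorem det_add_two (X Y : Matrix (Fin 2) (Fin 2) F) :
    (X + Y).det = X.det + Y.det + (X.trace * Y.trace - (X * Y).trace) := by
  simp [Matrix.det_fin_two, Matrix.trace_fin_two, Matrix.mul_apply, Fin.sum_univ_two]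
  ring

/-- The span of two trace zero elements and their product. -/
theorem combo (A B : SL F) (hA : (mt A).trace = 0) (hB : (mt B).trace = 0) (α β γ r : F)
    (hr : (mt (A * B)).trace = -2 * r) :
    let Z : Matrix (Fin 2) (Fin 2) F := α • mt A + β • mt B + γ • (mt A * mt B + r • 1)
    Z.trace = 0 ∧ Z.det = α ^ 2 + β ^ 2 + 2 * r * α * β + γ ^ 2 * (1 - r ^ 2) ∧
      (mt A * Z).trace = -2 * (α + r * β) ∧ (Z * mt B).trace = -2 * (r * α + β) := by
  intro Z
  rw [mt_mul] at hr
  have hAA : mt A * mt A = -1 := by rw [sq_eq, hA, det_mt, zero_smul, one_smul, zero_sub]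
  have hBB : mt B * mt B = -1 := by rw [sq_eq, hB, det_mt, zero_smul, one_smul, zero_sub]
  have hN : (mt A * mt B + r • (1 : Matrix (Fin 2) (Fin 2) F)).trace = 0 := by
    rw [Matrix.trace_add, Matrix.trace_smul, hr, Matrix.trace_one, Fintype.card_fin, smul_eq_mul]
    push_cast; ring
  have hAN : (mt A * (mt A * mt B + r • (1 : Matrix (Fin 2) (Fin 2) F))).trace = 0 := by
    rw [Matrix.mul_add, ← Matrix.mul_assoc, hAA, Matrix.mul_smul, Matrix.mul_one, neg_one_mul,
      Matrix.trace_add, Matrix.trace_neg, Matrix.trace_smul, hA, hB]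
    simp
  have hNB : ((mt A * mt B + r • (1 : Matrix (Fin 2) (Fin 2) F)) * mt B).trace = 0 := by
    rw [Matrix.add_mul, Matrix.mul_assoc, hBB, Matrix.smul_mul, Matrix.one_mul, mul_neg, Matrix.mul_one,
      Matrix.trace_add, Matrix.trace_neg, Matrix.trace_smul, hA, hB]
    simp
  have hBN : (mt B * (mt A * mt B + r • (1 : Matrix (Fin 2) (Fin 2) F))).trace = 0 := by
    rw [Matrix.trace_mul_comm]; exact hNB
  have hAB2 : (mt A * mt A).trace = -2 := by rw [hAA, Matrix.trace_neg, Matrix.trace_one]; simp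
  have hBB2 : (mt B * mt B).trace = -2 := by rw [hBB, Matrix.trace_neg, Matrix.trace_one]; simp
  refine ⟨?_, ?_, ?_, ?_⟩
  · show (_ + _ + _ : Matrix (Fin 2) (Fin 2) F).trace = 0
    simp only [Matrix.trace_add, Matrix.trace_smul] at hN ⊢
    simp only [hA, hB, smul_eq_mul] at hN ⊢
    linear_combination γ * hN
  · show (_ + _ + _ : Matrix (Fin 2) (Fin 2) F).det = _
    have hdN : (mt A * mt B + r • (1 : Matrix (Fin 2) (Fin 2) F)).det = 1 - r ^ 2 := by
      rw [det_add_two, Matrix.det_mul, det_mt, det_mt, Matrix.det_smul, Matrix.det_one, Fintype.card_fin,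
        Matrix.trace_smul, Matrix.mul_smul, Matrix.mul_one, Matrix.trace_smul, hr, Matrix.trace_one,
        Fintype.card_fin]
      simp
      ring
    rw [det_add_two, det_add_two]
    simp only [Matrix.trace_add, Matrix.trace_smul, Matrix.det_smul, Fintype.card_fin, det_mt, hdN,
      Matrix.add_mul, Matrix.smul_mul, Matrix.mul_smul, hAN, hBN, hr, hA, hB, smul_eq_mul]
    ring
  · show (mt A * (_ + _ + _)).trace = _
    simp only [Matrix.mul_add (mt A) _ _, Matrix.mul_smul, Matrix.trace_add, Matrix.trace_smul, hAB2, hr,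
      smul_eq_mul] at hAN ⊢
    linear_combination γ * hAN
  · show ((_ + _ + _) * mt B).trace = _
    simp only [Matrix.add_mul, Matrix.smul_mul, Matrix.trace_add, Matrix.trace_smul, hBB2, hr,
      smul_eq_mul] at hNB ⊢
    linear_combination γ * hNB

variable [Fintype F]

theorem odd_split (ho : Fintype.card F % 4 = 3) {g : SL F}
    (h : IsSquare ((mt g).trace ^ 2 - 4)) : Odd (orderOf (pm g)) := by
  classical
  rcases cases4 g with hc | ⟨a, ha, hga⟩ | ⟨e, b, he, hb, hgb⟩ | hE
  · rw [pm_eq_one_iff.2 hc, orderOf_one]; exact odd_one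
  · obtain ⟨y, rfl⟩ := isConj_iff.1 hga
    rw [show orderOf (pm (y * dg a * y⁻¹)) = orderOf (pm (dg a)) by
      rw [map_mul, map_mul, map_inv]
      exact orderOf_injective (MulAut.conj (pm y)).toMonoidHom (MulEquiv.injective _) (pm (dg a))]
    have hd : orderOf (pm (dg a)) ∣ (Fintype.card F - 1) / 2 := by
      rw [orderOf_dvd_iff_pow_eq_one, ← map_pow, ← map_pow, pm_eq_one_iff]
      refine bor_mem_center_iff.2 ⟨?_, rfl⟩
      rw [← pow_add, ← two_mul, Nat.mul_div_cancel' (by omega : 2 ∣ Fintype.card F - 1)]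
      rw [← Fintype.card_units]
      exact pow_card_eq_one
    exact Odd.of_dvd_nat (Nat.odd_iff.2 (by omega)) hd
  · obtain ⟨p, _⟩ := CharP.exists F
    haveI : Fact p.Prime := ⟨CharP.char_is_prime F p⟩
    obtain ⟨y, rfl⟩ := isConj_iff.1 hgb
    rw [show orderOf (pm (y * bor e b * y⁻¹)) = orderOf (pm (bor e b)) by
      rw [map_mul, map_mul, map_inv]
      exact orderOf_injective (MulAut.conj (pm y)).toMonoidHom (MulEquiv.injective _) (pm (bor e b))]
    have hb' : pm (bor e b) = pm (bor 1 (e * b)) := by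
      rw [show bor e b = bor e 0 * bor 1 (e * b) from ?_, map_mul,
        pm_eq_one_iff.2 (bor_mem_center_iff.2 ⟨he, rfl⟩), one_mul]
      rw [bor_mul, mul_one]
      congr 1
      have he' : (e : F) * e = 1 := by rw [← Units.val_mul, he, Units.val_one]
      linear_combination -b * he'
    have hdvd : orderOf (pm (bor e b)) ∣ p := by
      rw [hb', ← orderOf_bor_one p (mul_ne_zero (Units.ne_zero e) hb)]
      exact orderOf_map_dvd _ _
    refine Odd.of_dvd_nat ((Fact.out : p.Prime).odd_of_ne_two fun h2 => ?_) hdvd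
    subst h2
    have h1 : ringChar F = 2 := ringChar.eq F 2
    have := FiniteField.even_card_of_char_two h1
    omega
  · exfalso
    have h2 : ringChar F ≠ 2 := fun h2 => by have := FiniteField.even_card_of_char_two h2; omega
    obtain ⟨d, hd⟩ := h
    refine hE.det_smul_add_smul_ne_zero (a := -((mt g).trace + d) / 2) (b := 1) (Or.inr one_ne_zero) ?_
    rw [det_smul_add_smul, det_mt]
    have : (2 : F) ≠ 0 := Ring.two_ne_zero h2
    field_simp
    linear_combination -hd

theorem odd_unip (h2 : ringChar F ≠ 2) {g : SL F} (h : (mt g).trace ^ 2 = 4) : Odd (orderOf (pm g)) := by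
  classical
  obtain ⟨p, _⟩ := CharP.exists F
  haveI : Fact p.Prime := ⟨CharP.char_is_prime F p⟩
  have hp2 : p ≠ 2 := fun e => h2 (by subst e; exact ringChar.eq F 2)
  by_contra hodd
  have hp : Odd p := (Fact.out : p.Prime).odd_of_ne_two hp2
  by_cases hle : 2 < orderOf (pm g)
  · refine (trace_conditions p hle fun hd => ?_).1 h
    -- the order is a multiple of p, hence equal to p
    rcases cases4 g with hc | ⟨a, ha, hga⟩ | ⟨e, b, he, hb, hgb⟩ | hE
    · rw [pm_eq_one_iff.2 hc, orderOf_one] at hle; omega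
    · rw [← trace_eq_of_isConj hga, show dg a = bor a 0 from rfl, trace_mt_bor] at h
      refine ha (Units.ext ?_)
      rw [Units.val_mul, Units.val_one]
      have h5 : ((a : F) * a - 1) * ((a : F) * a - 1) = 0 := by
        linear_combination ((a : F) ^ 2) * h -
          (2 * (a : F) ^ 2 + (a : F) * ((a⁻¹ : Fˣ) : F) + 1) * (a.mul_inv)
      exact sub_eq_zero.1 (mul_self_eq_zero.1 h5)
    · obtain ⟨y, rfl⟩ := isConj_iff.1 hgb
      rw [show orderOf (pm (y * bor e b * y⁻¹)) = orderOf (pm (bor e b)) by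
        rw [map_mul, map_mul, map_inv]
        exact orderOf_injective (MulAut.conj (pm y)).toMonoidHom (MulEquiv.injective _) (pm (bor e b))] at hodd
      have hb' : pm (bor e b) = pm (bor 1 (e * b)) := by
        rw [show bor e b = bor e 0 * bor 1 (e * b) from ?_, map_mul,
          pm_eq_one_iff.2 (bor_mem_center_iff.2 ⟨he, rfl⟩), one_mul]
        rw [bor_mul, mul_one]
        congr 1
        have he' : (e : F) * e = 1 := by rw [← Units.val_mul, he, Units.val_one]
        linear_combination -b * he'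
      refine hodd (Odd.of_dvd_nat hp ?_)
      rw [hb', ← orderOf_bor_one p (mul_ne_zero (Units.ne_zero e) hb)]
      exact orderOf_map_dvd _ _
    · have : (2 : F) ≠ 0 := Ring.two_ne_zero h2
      refine hE.det_smul_add_smul_ne_zero (a := -(mt g).trace / 2) (b := 1) (Or.inr one_ne_zero) ?_
      rw [det_smul_add_smul, det_mt]
      field_simp
      linear_combination -h
  · have h0 := orderOf_pos (pm g)
    have hne : orderOf (pm g) ≠ 1 := fun e => hodd (by rw [e]; exact odd_one)
    have he : orderOf (pm g) = 2 := by omega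
    have h1 := pow_orderOf_eq_one (pm g)
    rw [he, sq, ← map_mul, pm_eq_one_iff, mem_center_iff_isScal, mt_mul, sq_eq, det_mt, one_smul] at h1
    obtain ⟨c, hc⟩ := h1
    have ht : (mt g).trace ≠ 0 := fun e => by
      rw [e] at h
      exact Ring.two_ne_zero h2 (mul_self_eq_zero.1 (show (2 : F) * 2 = 0 by linear_combination -h))
    refine hne (orderOf_eq_one_iff.2 (pm_eq_one_iff.2 (mem_center_iff_isScal.2
      ⟨(c + 1) / (mt g).trace, smul_right_injective _ ht ?_⟩)))
    show (mt g).trace • mt g = (mt g).trace • ((c + 1) / (mt g).trace) • (1 : Matrix (Fin 2) (Fin 2) F)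
    rw [smul_smul, mul_div_cancel₀ _ ht, add_smul, one_smul, ← hc, sub_add_cancel]

theorem odd_char_two [CharP F 2] {g : SL F} (h : (mt g).trace ≠ 0) : Odd (orderOf (pm g)) := by
  classical
  have heven : Fintype.card F % 2 = 0 := FiniteField.even_card_of_char_two (ringChar.eq F 2)
  rw [orderOf_injective pm pm_injective]
  rcases cases4 g with hc | ⟨a, ha, hga⟩ | ⟨e, b, he, hb, hgb⟩ | hE
  · rw [center_eq_bot, Subgroup.mem_bot] at hc
    rw [hc, orderOf_one]; exact odd_one
  · obtain ⟨y, rfl⟩ := isConj_iff.1 hga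
    refine Odd.of_dvd_nat (n := Fintype.card F - 1) (Nat.odd_iff.2 (by have := Fintype.one_lt_card (α := F); omega)) ?_
    rw [show orderOf (y * dg a * y⁻¹) = orderOf (dg a : SL F) from
      orderOf_injective (MulAut.conj y).toMonoidHom (MulEquiv.injective _) (dg a), ← Fintype.card_units]
    exact (orderOf_map_dvd dg a).trans orderOf_dvd_card
  · refine absurd ?_ h
    rw [← trace_eq_of_isConj hgb, trace_mt_bor, show e⁻¹ = e from inv_eq_of_mul_eq_one_left he]
    exact CharTwo.add_self_eq_zero _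
  · refine Odd.of_dvd_nat (n := Fintype.card F + 1) (Nat.odd_iff.2 (by omega)) ?_
    have := orderOf_dvd_natCard (⟨g, Subgroup.mem_centralizer_singleton_iff.2 rfl⟩ : tor g)
    rwa [Subgroup.orderOf_mk, card_tor hE] at this

/-- The image of `m ↦ (m + 1/m)/2` is more than half of the field. -/
theorem card_split_traces (ho : Fintype.card F % 2 = 1) [DecidableEq F] :
    Fintype.card F + 1 ≤ 2 * (Finset.univ.image fun m : Fˣ => ((m : F) + (m : F)⁻¹) / 2).card := by
  have h2r : ringChar F ≠ 2 := fun h2 => by have := FiniteField.even_card_of_char_two h2; omega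
  have h2 : (2 : F) ≠ 0 := Ring.two_ne_zero h2r
  set f := fun m : Fˣ => ((m : F) + (m : F)⁻¹) / 2
  set s := ((Finset.univ : Finset Fˣ).erase 1).erase (-1)
  have h11 : (-1 : Fˣ) ≠ 1 := fun e => h2 (by
    have := congrArg Units.val e
    simp at this
    linear_combination -this)
  have hcs : s.card + 3 = Fintype.card F := by
    rw [Finset.card_erase_of_mem (Finset.mem_erase.2 ⟨h11, Finset.mem_univ _⟩),
      Finset.card_erase_of_mem (Finset.mem_univ _), Finset.card_univ, Fintype.card_units]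
    have := Fintype.one_lt_card (α := F)
    omega
  have hfib : ∀ a ∈ s.image f, (s.filter fun m => f m = a).card ≤ 2 := by
    intro a ha
    obtain ⟨n, -, rfl⟩ := Finset.mem_image.1 ha
    refine (Finset.card_le_card (t := {n, n⁻¹}) fun m hm => ?_).trans Finset.card_le_two
    have e : f m = f n := (Finset.mem_filter.1 hm).2
    have key : ((m : F) - n) * ((m : F) * n - 1) = 0 := by
      simp [f] at e
      field_simp at e
      linear_combination e
    rcases mul_eq_zero.1 key with k | k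
    · simp [Units.ext (sub_eq_zero.1 k)]
    · simp [show m = n⁻¹ from eq_inv_of_mul_eq_one_left (Units.ext (by simpa using sub_eq_zero.1 k))]
  have hsub : s.image f ⊆ (((Finset.univ.image f).erase 1).erase (-1)) := by
    intro a ha
    obtain ⟨m, hm, rfl⟩ := Finset.mem_image.1 ha
    simp only [s, Finset.mem_erase] at hm
    have hm0 : (m : F) ≠ 0 := m.ne_zero
    refine Finset.mem_erase.2 ⟨fun e => hm.1 (Units.ext ?_), Finset.mem_erase.2 ⟨fun e => hm.2.1 (Units.ext ?_),
      Finset.mem_image_of_mem f (Finset.mem_univ m)⟩⟩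
    · simp [f] at e
      field_simp at e
      simp only [Units.val_neg, Units.val_one]
      exact eq_neg_of_add_eq_zero_left (mul_self_eq_zero.1 (show ((m : F) + 1) * ((m : F) + 1) = 0 by linear_combination e))
    · simp [f] at e
      field_simp at e
      simp only [Units.val_neg, Units.val_one]
      exact sub_eq_zero.1 (mul_self_eq_zero.1 (show ((m : F) - 1) * ((m : F) - 1) = 0 by linear_combination e))
  have hm1 : (1 : F) ∈ Finset.univ.image f := Finset.mem_image.2 ⟨1, Finset.mem_univ _, by simp [f]; field_simp; norm_num⟩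
  have hm2 : (-1 : F) ∈ (Finset.univ.image f).erase 1 := Finset.mem_erase.2
    ⟨fun e => h2 (by linear_combination -e), Finset.mem_image.2 ⟨-1, Finset.mem_univ _, by simp [f]; field_simp; norm_num⟩⟩
  have hc := (Finset.card_le_mul_card_image s 2 hfib).trans (Nat.mul_le_mul_left 2 (Finset.card_le_card hsub))
  rw [Finset.card_erase_of_mem hm2, Finset.card_erase_of_mem hm1] at hc
  have : 2 ≤ (Finset.univ.image f).card := by
    have h1 := Finset.card_pos.2 ⟨_, hm2⟩
    rw [Finset.card_erase_of_mem hm1] at h1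
    omega
  omega

theorem card_conic (hns : ¬ IsSquare (-1 : F)) [DecidableEq F] {c : F} (hc : c ≠ 0) :
    Fintype.card F + 1 ≤ 2 * ((Finset.univ.filter fun z : F × F => z.1 ^ 2 + z.2 ^ 2 = c).image Prod.fst).card := by
  have h := CfsgLib.Solubilizer.card_norm hns hc
  rw [Nat.card_eq_fintype_card, Fintype.card_subtype] at h
  refine h.symm.le.trans (Finset.card_le_mul_card_image _ 2 fun v hv => ?_)
  obtain ⟨⟨v', z⟩, hz, rfl⟩ := Finset.mem_image.1 hv
  refine (Finset.card_le_card (t := {(v', z), (v', -z)}) fun w hw => ?_).trans Finset.card_le_two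
  simp only [Finset.mem_filter, Finset.mem_univ, true_and] at hw hz
  have : w.2 ^ 2 = z ^ 2 := by
    have e := hw.1
    rw [hw.2] at e
    linear_combination e - hz
  rcases sq_eq_sq_iff_eq_or_eq_neg.1 this with e | e
  · exact Finset.mem_insert.2 (Or.inl (Prod.ext hw.2 e))
  · exact Finset.mem_insert.2 (Or.inr (Finset.mem_singleton.2 (Prod.ext hw.2 e)))

/-- A trace zero element forming products of odd order with two given ones. -/
theorem exists_mid_odd (h4 : 4 ≤ Fintype.card F) (ho : Fintype.card F % 2 = 1) (A B : SL F)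
    (hA : (mt A).trace = 0) (hB : (mt B).trace = 0) (hn : ¬ Odd (orderOf (pm (A * B)))) :
    ∃ Z : SL F, (mt Z).trace = 0 ∧ Odd (orderOf (pm (A * Z))) ∧ Odd (orderOf (pm (Z * B))) := by
  classical
  have h2r : ringChar F ≠ 2 := fun h2 => by have := FiniteField.even_card_of_char_two h2; omega
  have h2 : (2 : F) ≠ 0 := Ring.two_ne_zero h2r
  set r : F := -(mt (A * B)).trace / 2 with hrdef
  have hr : (mt (A * B)).trace = -2 * r := by rw [hrdef]; field_simp
  have hr1 : 1 - r ^ 2 ≠ 0 := fun e => hn (odd_unip h2r (by rw [hr]; linear_combination -4 * e))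
  have key : ∀ α β γ : F, α ^ 2 + β ^ 2 + 2 * r * α * β + γ ^ 2 * (1 - r ^ 2) = 1 →
      (∀ g : SL F, (mt g).trace = -2 * (α + r * β) → Odd (orderOf (pm g))) →
      (∀ g : SL F, (mt g).trace = -2 * (r * α + β) → Odd (orderOf (pm g))) →
      ∃ Z : SL F, (mt Z).trace = 0 ∧ Odd (orderOf (pm (A * Z))) ∧ Odd (orderOf (pm (Z * B))) := by
    intro α β γ hd h1 h1'
    obtain ⟨c1, c2, c3, c4⟩ := combo A B hA hB α β γ r hr
    exact ⟨⟨_, c2.trans hd⟩, c1, h1 _ c3, h1' _ c4⟩
  rcases (show Fintype.card F % 4 = 1 ∨ Fintype.card F % 4 = 3 by omega) with h1 | h3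
  · obtain ⟨i, hi⟩ : IsSquare (-1 : F) := FiniteField.isSquare_neg_one_iff.2 (by omega)
    have hr' : 1 + r ≠ 0 := fun e => hr1 (by linear_combination (1 - r) * e)
    refine key (1 / (1 + r)) (1 / (1 + r)) (i / (1 + r)) ?_ (fun g hg => odd_unip h2r ?_) (fun g hg => odd_unip h2r ?_)
    · field_simp
      linear_combination (r ^ 2 - 1) * hi
    · rw [hg]; field_simp; ring
    · rw [hg]; field_simp; ring
  · have hns : ¬ IsSquare (-1 : F) := fun h => (FiniteField.isSquare_neg_one_iff.1 h) h3
    obtain ⟨w, hw⟩ : IsSquare (1 - r ^ 2) := by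
      by_contra hsq
      have hsq' : IsSquare (r ^ 2 - 1) := by
        have e := FiniteField.unit_isSquare_iff h2r
        have h' : quadraticChar F (r ^ 2 - 1) = 1 := by
          rw [show r ^ 2 - 1 = (-1) * (1 - r ^ 2) by ring, map_mul, quadraticChar_neg_one_iff_not_isSquare.2 hns,
            quadraticChar_neg_one_iff_not_isSquare.2 hsq]
          norm_num
        exact (quadraticChar_one_iff_isSquare (fun e' => hr1 (by linear_combination -e'))).1 h'
      refine hn (odd_split h3 ?_)
      obtain ⟨d, hd⟩ := hsq'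
      exact ⟨2 * d, by rw [hr]; linear_combination 4 * hd⟩
    have hw0 : w ≠ 0 := fun e => hr1 (by rw [hw, e, mul_zero])
    obtain ⟨m₀, hm0, hm1⟩ := CfsgLib.Linear.Small.exists_sq_ne_one (F := F) h4
    obtain ⟨u, hu⟩ : ∃ u, u = (m₀ + m₀⁻¹) / 2 := ⟨_, rfl⟩
    obtain ⟨a, ha⟩ : ∃ a, a = (m₀ - m₀⁻¹) / 2 := ⟨_, rfl⟩
    have hua : u ^ 2 - a ^ 2 = 1 := by rw [hu, ha]; field_simp; ring
    have ha0 : -a ^ 2 ≠ 0 := neg_ne_zero.2 (pow_ne_zero _ (by
      rw [ha]
      refine div_ne_zero (fun e => hm1 ?_) h2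
      field_simp at e
      linear_combination e))
    set V := (Finset.univ.filter fun z : F × F => z.1 ^ 2 + z.2 ^ 2 = -a ^ 2).image Prod.fst
    set S := Finset.univ.image fun m : Fˣ => ((m : F) + (m : F)⁻¹) / 2
    have hV : Fintype.card F + 1 ≤ 2 * V.card := card_conic hns ha0
    have hS : Fintype.card F + 1 ≤ 2 * S.card := card_split_traces ho
    obtain ⟨T, hT1, hT2⟩ : ∃ T, T ∈ S ∧ T ∈ V.image (fun v => r * u + w * v) := by
      by_contra hc
      push Not at hc
      have hdisj : Disjoint S (V.image fun v => r * u + w * v) := Finset.disjoint_left.2 hc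
      have hle := Finset.card_le_univ (S ∪ V.image fun v => r * u + w * v)
      rw [Finset.card_union_of_disjoint hdisj, Finset.card_image_of_injective V (f := fun v => r * u + w * v)
        (fun x y e => by simpa [hw0] using e)] at hle
      omega
    obtain ⟨m, -, hm⟩ := Finset.mem_image.1 hT1
    obtain ⟨v, hv, hvT⟩ := Finset.mem_image.1 hT2
    obtain ⟨⟨v', z⟩, hz, rfl⟩ := Finset.mem_image.1 hv
    simp only [Finset.mem_filter, Finset.mem_univ, true_and] at hz hvT
    refine key (u - r * v' / w) (v' / w) (z / w) ?_ (fun g hg => odd_split h3 ⟨2 * a, ?_⟩)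
      (fun g hg => odd_split h3 ⟨(m : F) - (m : F)⁻¹, ?_⟩)
    · rw [hw]
      field_simp
      linear_combination w ^ 2 * hz + w ^ 2 * hua + v' ^ 2 * hw
    · rw [hg, show u - r * v' / w + r * (v' / w) = u by ring]
      linear_combination 4 * hua
    · have e : r * (u - r * v' / w) + v' / w = T := by
        rw [← hvT]
        field_simp
        linear_combination v' * hw
      rw [hg, e, ← hm]
      have := m.ne_zero
      field_simp
      ring

/-- In characteristic two three elements suffice. -/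
theorem exists_mid_even [CharP F 2] (A B : SL F) (hA : (mt A).trace = 0) (hB : (mt B).trace = 0)
    (hA1 : A ∉ Subgroup.center (SL F)) (hB1 : B ∉ Subgroup.center (SL F)) :
    ∃ Z : SL F, (mt Z).trace = 0 ∧ Z ∉ Subgroup.center (SL F) ∧
      Odd (orderOf (pm (A * Z))) ∧ Odd (orderOf (pm (Z * B))) := by
  have two := CharTwo.two_eq_zero (R := F)
  have hbc : ∀ X : SL F, (mt X).trace = 0 → X ∉ Subgroup.center (SL F) → mt X 0 1 = 0 → mt X 1 0 ≠ 0 := by
    intro X hX hnc h01 h10
    refine hnc (mem_center_iff_isScal.2 ((isScal_iff _).2 ⟨h01, h10, ?_⟩))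
    rw [Matrix.trace_fin_two] at hX
    linear_combination hX - mt X 1 1 * two
  rw [Matrix.trace_fin_two] at hA hB
  obtain ⟨P, hP⟩ : ∃ P : SL F, mt P = !![1, 1; 0, 1] := ⟨⟨_, by simp [Matrix.det_fin_two_of]⟩, rfl⟩
  obtain ⟨Q, hQ⟩ : ∃ Q : SL F, mt Q = !![1, 0; 1, 1] := ⟨⟨_, by simp [Matrix.det_fin_two_of]⟩, rfl⟩
  obtain ⟨R, hR⟩ : ∃ R : SL F, mt R = !![0, 1; 1, 0] := ⟨⟨_, by simp [Matrix.det_fin_two_of, CharTwo.neg_eq]⟩, rfl⟩
  have mk : ∀ Z : SL F, (mt Z).trace = 0 → ¬ IsScal (mt Z) → (mt (A * Z)).trace ≠ 0 → (mt (Z * B)).trace ≠ 0 →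
      ∃ Z : SL F, (mt Z).trace = 0 ∧ Z ∉ Subgroup.center (SL F) ∧
        Odd (orderOf (pm (A * Z))) ∧ Odd (orderOf (pm (Z * B))) := fun Z h1 h2 h3 h4 =>
    ⟨Z, h1, fun h => h2 (mem_center_iff_isScal.1 h), odd_char_two h3, odd_char_two h4⟩
  have tP : ∀ X : SL F, mt X 0 0 + mt X 1 1 = 0 → (mt (X * P)).trace = mt X 1 0 ∧ (mt (P * X)).trace = mt X 1 0 := by
    intro X h
    simp only [mt_mul, Matrix.trace_fin_two, Matrix.mul_apply, Fin.sum_univ_two, hP]
    exact ⟨by simp; linear_combination h, by simp; linear_combination h⟩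
  have tQ : ∀ X : SL F, mt X 0 0 + mt X 1 1 = 0 → (mt (X * Q)).trace = mt X 0 1 ∧ (mt (Q * X)).trace = mt X 0 1 := by
    intro X h
    simp only [mt_mul, Matrix.trace_fin_two, Matrix.mul_apply, Fin.sum_univ_two, hQ]
    exact ⟨by simp; linear_combination h, by simp; linear_combination h⟩
  have tR : ∀ X : SL F, (mt (X * R)).trace = mt X 0 1 + mt X 1 0 ∧ (mt (R * X)).trace = mt X 0 1 + mt X 1 0 := by
    intro X
    simp only [mt_mul, Matrix.trace_fin_two, Matrix.mul_apply, Fin.sum_univ_two, hR]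
    exact ⟨by simp, by simp; ring⟩
  have sP : (mt P).trace = 0 ∧ ¬ IsScal (mt P) := ⟨by simp [hP, Matrix.trace_fin_two, CharTwo.add_self_eq_zero],
    fun h => by simpa [hP] using ((isScal_iff _).1 h).1⟩
  have sQ : (mt Q).trace = 0 ∧ ¬ IsScal (mt Q) := ⟨by simp [hQ, Matrix.trace_fin_two, CharTwo.add_self_eq_zero],
    fun h => by simpa [hQ] using ((isScal_iff _).1 h).2.1⟩
  have sR : (mt R).trace = 0 ∧ ¬ IsScal (mt R) := ⟨by simp [hR, Matrix.trace_fin_two],
    fun h => by simpa [hR] using ((isScal_iff _).1 h).1⟩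
  have hA' := hbc A (by rw [Matrix.trace_fin_two]; exact hA) hA1
  have hB' := hbc B (by rw [Matrix.trace_fin_two]; exact hB) hB1
  by_cases cP : mt A 1 0 ≠ 0 ∧ mt B 1 0 ≠ 0
  · exact mk P sP.1 sP.2 ((tP A hA).1 ▸ cP.1) ((tP B hB).2 ▸ cP.2)
  by_cases cQ : mt A 0 1 ≠ 0 ∧ mt B 0 1 ≠ 0
  · exact mk Q sQ.1 sQ.2 ((tQ A hA).1 ▸ cQ.1) ((tQ B hB).2 ▸ cQ.2)
  refine mk R sR.1 sR.2 ?_ ?_
  · rw [(tR A).1]
    intro e
    rcases not_and_or.1 cP with c | c <;> rw [not_not] at c
    · exact hA' (by linear_combination e - c) c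
    · rcases not_and_or.1 cQ with c' | c' <;> rw [not_not] at c'
      · exact hA' c' (by linear_combination e - c')
      · exact hB' c' c
  · rw [(tR B).2]
    intro e
    rcases not_and_or.1 cP with c | c <;> rw [not_not] at c
    · rcases not_and_or.1 cQ with c' | c' <;> rw [not_not] at c'
      · exact hA' c' c
      · exact hB' c' (by linear_combination e - c')
    · exact hB' (by linear_combination e - c) c

end CfsgLib.OddProduct
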