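import Cfsg.Agent.OddProduct.PSLTwo

/-!
The odd product graph on the involutions of PSL(2,q).
-/

set_option autoImplicit false

namespace CfsgLib.OddProduct

open CfsgLib.SL2C Matrix

variable {F : Type*} [Field F] [Fintype F]

theorem trace_of_order_two {A : SL F} (h : orderOf (pm A) = 2) :
    (mt A).trace = 0 ∧ A ∉ Subgroup.center (SL F) := by
  have hnc : A ∉ Subgroup.center (SL F) := fun hc => by
    rw [pm_eq_one_iff.2 hc, orderOf_one] at h; omega
  have h1 := pow_orderOf_eq_one (pm A)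
  rw [h, sq, ← map_mul, pm_eq_one_iff, mem_center_iff_isScal, mt_mul, sq_eq, det_mt, one_smul] at h1
  obtain ⟨c, hc⟩ := h1
  refine ⟨?_, hnc⟩
  by_contra ht
  refine hnc (mem_center_iff_isScal.2 ⟨(c + 1) / (mt A).trace, smul_right_injective _ ht ?_⟩)
  show (mt A).trace • mt A = (mt A).trace • ((c + 1) / (mt A).trace) • (1 : Matrix (Fin 2) (Fin 2) F)
  rw [smul_smul, mul_div_cancel₀ _ ht, add_smul, one_smul, ← hc, sub_add_cancel]

theorem order_two_of_trace {A : SL F} (h0 : (mt A).trace = 0) (hnc : A ∉ Subgroup.center (SL F)) :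
    orderOf (pm A) = 2 := by
  refine orderOf_eq_prime ?_ fun h => hnc (pm_eq_one_iff.1 h)
  rw [sq, ← map_mul, pm_eq_one_iff, mem_center_iff_isScal, mt_mul, sq_eq, det_mt, one_smul, h0, zero_smul, zero_sub]
  exact ⟨-1, by rw [neg_one_smul]⟩

theorem isConj_trace_zero {A B : SL F} (hA : (mt A).trace = 0) (hB : (mt B).trace = 0)
    (hA1 : A ∉ Subgroup.center (SL F)) (hB1 : B ∉ Subgroup.center (SL F)) : IsConj A B := by
  by_cases h2 : ringChar F = 2
  · obtain ⟨P, hP, hPe⟩ := exists_conj (fun e => hA1 (mem_center_iff_isScal.2 e))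
      (fun e => hB1 (mem_center_iff_isScal.2 e)) (hA.trans hB.symm) (by rw [det_mt, det_mt])
    obtain ⟨s, hs⟩ := FiniteField.isSquare_of_char_two h2 P.det⁻¹
    refine isConj_iff_mt.2 ⟨⟨s • P, ?_⟩, ?_⟩
    · rw [Matrix.det_smul, Fintype.card_fin, sq, ← hs, inv_mul_cancel₀ hP]
    · change mt B * (s • P) = (s • P) * mt A
      rw [Matrix.mul_smul, hPe, Matrix.smul_mul]
  · refine isConj_of_trace_ne ?_ (hA.trans hB.symm)
    rw [hA]
    intro e
    exact Ring.two_ne_zero h2 (mul_self_eq_zero.1 (show (2 : F) * 2 = 0 by linear_combination -e))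

/-- Two distinct commuting involutions. -/
theorem exists_even_pair (h4 : 4 ≤ Fintype.card F) : ∃ A B : SL F, (mt A).trace = 0 ∧ (mt B).trace = 0 ∧
    A ∉ Subgroup.center (SL F) ∧ B ∉ Subgroup.center (SL F) ∧ pm A ≠ pm B ∧
      orderOf (pm A * pm B) = 2 ∧ orderOf (pm B * pm A) = 2 := by
  classical
  suffices h : ∃ A B : SL F, (mt A).trace = 0 ∧ (mt B).trace = 0 ∧
      A ∉ Subgroup.center (SL F) ∧ B ∉ Subgroup.center (SL F) ∧ orderOf (pm (A * B)) = 2 by
    obtain ⟨A, B, h1, h2, h3, h4, h5⟩ := h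
    rw [map_mul] at h5
    refine ⟨A, B, h1, h2, h3, h4, fun e => ?_, h5, ?_⟩
    · have := pow_orderOf_eq_one (pm B)
      rw [order_two_of_trace h2 h4, sq] at this
      rw [e, this, orderOf_one] at h5
      omega
    · refine Eq.trans ?_ h5
      rw [show pm B * pm A = MulAut.conj (pm B) (pm A * pm B) by simp [mul_assoc]]
      exact orderOf_injective (MulAut.conj (pm B)).toMonoidHom (MulEquiv.injective _) _
  obtain ⟨c, hc0, hc1⟩ := CfsgLib.Linear.Small.exists_sq_ne_one (F := F) h4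
  by_cases h2 : ringChar F = 2
  · haveI : CharP F 2 := ringChar.of_eq h2
    have ht : ∀ b : F, (mt (bor (1 : Fˣ) b)).trace = 0 := fun b => by
      rw [trace_mt_bor]; simp [CharTwo.add_self_eq_zero]
    have hnc : ∀ b : F, b ≠ 0 → bor (1 : Fˣ) b ∉ Subgroup.center (SL F) := fun b hb h => hb (bor_mem_center_iff.1 h).2
    refine ⟨bor 1 1, bor 1 c, ht _, ht _, hnc _ one_ne_zero, hnc _ hc0, ?_⟩
    rw [bor_mul, mul_one]
    refine order_two_of_trace (ht _) (hnc _ fun e => hc1 ?_)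
    simp at e
    linear_combination (c - 1) * e
  · obtain ⟨p, _⟩ := CharP.exists F
    haveI : Fact p.Prime := ⟨CharP.char_is_prime F p⟩
    obtain ⟨x, y, hxy⟩ := CharP.sq_add_sq F p (-1)
    push_cast at hxy
    let A : SL F := ⟨!![0, -1; 1, 0], by simp [Matrix.det_fin_two_of]⟩
    obtain ⟨B, hB⟩ : ∃ B : SL F, mt B = !![(x : F), (y : F); (y : F), -(x : F)] :=
      ⟨⟨_, by rw [Matrix.det_fin_two_of]; linear_combination -hxy⟩, rfl⟩
    have hA : mt A = !![0, -1; 1, 0] := rfl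
    have hnc : ∀ Z : SL F, (mt Z).trace = 0 → Z ∉ Subgroup.center (SL F) := fun Z h0 hc => by
      have := trace_sq_eq_four_of_central hc
      rw [h0] at this
      exact Ring.two_ne_zero h2 (mul_self_eq_zero.1 (show (2 : F) * 2 = 0 by linear_combination -this))
    have tA : (mt A).trace = 0 := by rw [hA]; simp [Matrix.trace_fin_two]
    have tB : (mt B).trace = 0 := by rw [hB]; simp [Matrix.trace_fin_two]
    have tAB : (mt (A * B)).trace = 0 := by
      rw [mt_mul, hA, hB]; simp [Matrix.trace_fin_two]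
    exact ⟨A, B, tA, tB, hnc A tA, hnc B tB, order_two_of_trace tAB (hnc _ tAB)⟩

theorem main (h4 : 4 ≤ Fintype.card F) (t : PSL F) (ht : orderOf t = 2) :
    (SimpleGraph.fromRel fun x y : {x : PSL F // IsConj t x} => Odd (orderOf (x.1 * y.1))).Connected ∧
      (SimpleGraph.fromRel fun x y : {x : PSL F // IsConj t x} => Odd (orderOf (x.1 * y.1))).diam = 2 := by
  obtain ⟨T, rfl⟩ := pm_surjective t
  obtain ⟨tT, ncT⟩ := trace_of_order_two ht
  have mem : ∀ Z : SL F, (mt Z).trace = 0 → Z ∉ Subgroup.center (SL F) → IsConj (pm T) (pm Z) := fun Z h0 hnc =>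
    MonoidHom.map_isConj pm (isConj_trace_zero tT h0 ncT hnc)
  have hord : ∀ x : {x : PSL F // IsConj (pm T) x}, orderOf x.1 = 2 := fun x => by
    obtain ⟨g, hg⟩ := isConj_iff.1 x.2
    rw [← hg, show g * pm T * g⁻¹ = MulAut.conj g (pm T) from rfl, MulEquiv.orderOf_eq, ht]
  obtain ⟨A, B, tA, tB, ncA, ncB, hne, hAB, hBA⟩ := exists_even_pair (F := F) h4
  refine diam_two (a := ⟨pm A, mem A tA ncA⟩) (b := ⟨pm B, mem B tB ncB⟩) (fun e => hne (congrArg Subtype.val e))
    (fun h => ?_) ?_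
  · rcases ((SimpleGraph.fromRel_adj _ _ _).1 h).2 with h | h
    · exact (Nat.not_odd_iff_even.2 even_two) (hAB ▸ h)
    · exact (Nat.not_odd_iff_even.2 even_two) (hBA ▸ h)
  · intro u v huv hadj
    obtain ⟨U, hU⟩ := pm_surjective u.1
    obtain ⟨V, hV⟩ := pm_surjective v.1
    obtain ⟨tU, ncU⟩ := trace_of_order_two (A := U) (hU.symm ▸ hord u)
    obtain ⟨tV, ncV⟩ := trace_of_order_two (A := V) (hV.symm ▸ hord v)
    have hn : ¬ Odd (orderOf (pm (U * V))) := fun h =>
      hadj ((SimpleGraph.fromRel_adj _ _ _).2 ⟨huv, Or.inl (by rwa [map_mul, hU, hV] at h)⟩)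
    obtain ⟨Z, tZ, ncZ, h1, h2⟩ : ∃ Z : SL F, (mt Z).trace = 0 ∧ Z ∉ Subgroup.center (SL F) ∧
        Odd (orderOf (pm (U * Z))) ∧ Odd (orderOf (pm (Z * V))) := by
      by_cases h2 : ringChar F = 2
      · haveI : CharP F 2 := ringChar.of_eq h2
        exact exists_mid_even U V tU tV ncU ncV
      · obtain ⟨Z, tZ, h1, h1'⟩ := exists_mid_odd h4 (FiniteField.odd_card_of_char_ne_two h2) U V tU tV hn
        refine ⟨Z, tZ, fun hc => ?_, h1, h1'⟩
        have := trace_sq_eq_four_of_central hc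
        rw [tZ] at this
        exact Ring.two_ne_zero h2 (mul_self_eq_zero.1 (show (2 : F) * 2 = 0 by linear_combination -this))
    rw [map_mul, hU] at h1
    rw [map_mul, hV] at h2
    refine ⟨⟨pm Z, mem Z tZ ncZ⟩, (SimpleGraph.fromRel_adj _ _ _).2 ⟨fun e => hn ?_, Or.inl h1⟩,
      (SimpleGraph.fromRel_adj _ _ _).2 ⟨fun e => hn ?_, Or.inl h2⟩⟩
    · rw [map_mul, hU, hV, congrArg Subtype.val e]; exact h2
    · rw [map_mul, hU, hV, ← congrArg Subtype.val e]; exact h1

end CfsgLib.OddProduct
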